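import Mathlib
import Cfsg.Agent.Lib.LyDce.Fix3Defs

set_option autoImplicit false
set_option Elab.async false
set_option maxRecDepth 100000
set_option linter.all false
set_option maxHeartbeats 0

namespace Cfsg.Agent.TcData.Ly.Fix3.T1

open Cfsg.Agent.Lib.TcFacts Cfsg.Agent.Lib.LyDce

theorem b80 : Block (okR 137400387) (fixR 137400387) 20480 20736 4 :=
  block_of_check (k := 8) rfl (by decide +kernel)

theorem b81 : Block (okR 137400387) (fixR 137400387) 20736 20992 4 :=
  block_of_check (k := 8) rfl (by decide +kernel)

theorem b82 : Block (okR 137400387) (fixR 137400387) 20992 21248 2 :=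
  block_of_check (k := 8) rfl (by decide +kernel)

theorem b83 : Block (okR 137400387) (fixR 137400387) 21248 21504 0 :=
  block_of_check (k := 8) rfl (by decide +kernel)

theorem b84 : Block (okR 137400387) (fixR 137400387) 21504 21760 1 :=
  block_of_check (k := 8) rfl (by decide +kernel)

theorem b85 : Block (okR 137400387) (fixR 137400387) 21760 22016 0 :=
  block_of_check (k := 8) rfl (by decide +kernel)

theorem b86 : Block (okR 137400387) (fixR 137400387) 22016 22272 0 :=
  block_of_check (k := 8) rfl (by decide +kernel)

theorem b87 : Block (okR 137400387) (fixR 137400387) 22272 22528 2 :=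
  block_of_check (k := 8) rfl (by decide +kernel)

theorem b88 : Block (okR 137400387) (fixR 137400387) 22528 22784 4 :=
  block_of_check (k := 8) rfl (by decide +kernel)

theorem b89 : Block (okR 137400387) (fixR 137400387) 22784 23040 0 :=
  block_of_check (k := 8) rfl (by decide +kernel)

theorem b90 : Block (okR 137400387) (fixR 137400387) 23040 23296 4 :=
  block_of_check (k := 8) rfl (by decide +kernel)

theorem b91 : Block (okR 137400387) (fixR 137400387) 23296 23552 0 :=
  block_of_check (k := 8) rfl (by decide +kernel)

theorem b92 : Block (okR 137400387) (fixR 137400387) 23552 23808 1 :=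
  block_of_check (k := 8) rfl (by decide +kernel)

theorem b93 : Block (okR 137400387) (fixR 137400387) 23808 24064 2 :=
  block_of_check (k := 8) rfl (by decide +kernel)

theorem b94 : Block (okR 137400387) (fixR 137400387) 24064 24320 1 :=
  block_of_check (k := 8) rfl (by decide +kernel)

theorem b95 : Block (okR 137400387) (fixR 137400387) 24320 24576 1 :=
  block_of_check (k := 8) rfl (by decide +kernel)

theorem b96 : Block (okR 137400387) (fixR 137400387) 24576 24832 2 :=
  block_of_check (k := 8) rfl (by decide +kernel)

theorem b97 : Block (okR 137400387) (fixR 137400387) 24832 25088 3 :=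
  block_of_check (k := 8) rfl (by decide +kernel)

theorem b98 : Block (okR 137400387) (fixR 137400387) 25088 25344 0 :=
  block_of_check (k := 8) rfl (by decide +kernel)

theorem b99 : Block (okR 137400387) (fixR 137400387) 25344 25600 2 :=
  block_of_check (k := 8) rfl (by decide +kernel)

theorem b100 : Block (okR 137400387) (fixR 137400387) 25600 25856 6 :=
  block_of_check (k := 8) rfl (by decide +kernel)

theorem b101 : Block (okR 137400387) (fixR 137400387) 25856 26112 0 :=
  block_of_check (k := 8) rfl (by decide +kernel)

theorem b102 : Block (okR 137400387) (fixR 137400387) 26112 26368 0 :=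
  block_of_check (k := 8) rfl (by decide +kernel)

theorem b103 : Block (okR 137400387) (fixR 137400387) 26368 26624 0 :=
  block_of_check (k := 8) rfl (by decide +kernel)

theorem b104 : Block (okR 137400387) (fixR 137400387) 26624 26880 2 :=
  block_of_check (k := 8) rfl (by decide +kernel)

theorem b105 : Block (okR 137400387) (fixR 137400387) 26880 27136 2 :=
  block_of_check (k := 8) rfl (by decide +kernel)

theorem b106 : Block (okR 137400387) (fixR 137400387) 27136 27392 1 :=
  block_of_check (k := 8) rfl (by decide +kernel)

theorem b107 : Block (okR 137400387) (fixR 137400387) 27392 27648 0 :=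
  block_of_check (k := 8) rfl (by decide +kernel)

theorem b108 : Block (okR 137400387) (fixR 137400387) 27648 27904 0 :=
  block_of_check (k := 8) rfl (by decide +kernel)

theorem b109 : Block (okR 137400387) (fixR 137400387) 27904 28160 2 :=
  block_of_check (k := 8) rfl (by decide +kernel)

theorem b110 : Block (okR 137400387) (fixR 137400387) 28160 28416 1 :=
  block_of_check (k := 8) rfl (by decide +kernel)

theorem b111 : Block (okR 137400387) (fixR 137400387) 28416 28672 0 :=
  block_of_check (k := 8) rfl (by decide +kernel)

theorem b112 : Block (okR 137400387) (fixR 137400387) 28672 28928 1 :=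
  block_of_check (k := 8) rfl (by decide +kernel)

theorem b113 : Block (okR 137400387) (fixR 137400387) 28928 29184 4 :=
  block_of_check (k := 8) rfl (by decide +kernel)

theorem b114 : Block (okR 137400387) (fixR 137400387) 29184 29440 0 :=
  block_of_check (k := 8) rfl (by decide +kernel)

theorem b115 : Block (okR 137400387) (fixR 137400387) 29440 29696 0 :=
  block_of_check (k := 8) rfl (by decide +kernel)

theorem b116 : Block (okR 137400387) (fixR 137400387) 29696 29952 0 :=
  block_of_check (k := 8) rfl (by decide +kernel)

end Cfsg.Agent.TcData.Ly.Fix3.T1
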