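import Mathlib
import Cfsg.Agent.TcData.Ly.Fix3.T1C0
import Cfsg.Agent.TcData.Ly.Fix3.T1C1
import Cfsg.Agent.TcData.Ly.Fix3.T1C2

set_option autoImplicit false
set_option Elab.async false
set_option maxRecDepth 100000
set_option linter.all false
set_option maxHeartbeats 0

namespace Cfsg.Agent.TcData.Ly.Fix3.T1

open Cfsg.Agent.Lib.TcFacts Cfsg.Agent.Lib.LyDce

theorem c0 : Block (okR 137400387) (fixR 137400387) 0 256 14 := b0

theorem c1 : Block (okR 137400387) (fixR 137400387) 0 512 18 :=
  block_comb c0 b1 (Nat.zero_le _) (Nat.le_of_ble_eq_true rfl) rfl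

theorem c2 : Block (okR 137400387) (fixR 137400387) 0 768 20 :=
  block_comb c1 b2 (Nat.zero_le _) (Nat.le_of_ble_eq_true rfl) rfl

theorem c3 : Block (okR 137400387) (fixR 137400387) 0 1024 26 :=
  block_comb c2 b3 (Nat.zero_le _) (Nat.le_of_ble_eq_true rfl) rfl

theorem c4 : Block (okR 137400387) (fixR 137400387) 0 1280 30 :=
  block_comb c3 b4 (Nat.zero_le _) (Nat.le_of_ble_eq_true rfl) rfl

theorem c5 : Block (okR 137400387) (fixR 137400387) 0 1536 30 :=
  block_comb c4 b5 (Nat.zero_le _) (Nat.le_of_ble_eq_true rfl) rfl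

theorem c6 : Block (okR 137400387) (fixR 137400387) 0 1792 31 :=
  block_comb c5 b6 (Nat.zero_le _) (Nat.le_of_ble_eq_true rfl) rfl

theorem c7 : Block (okR 137400387) (fixR 137400387) 0 2048 37 :=
  block_comb c6 b7 (Nat.zero_le _) (Nat.le_of_ble_eq_true rfl) rfl

theorem c8 : Block (okR 137400387) (fixR 137400387) 0 2304 43 :=
  block_comb c7 b8 (Nat.zero_le _) (Nat.le_of_ble_eq_true rfl) rfl

theorem c9 : Block (okR 137400387) (fixR 137400387) 0 2560 48 :=
  block_comb c8 b9 (Nat.zero_le _) (Nat.le_of_ble_eq_true rfl) rfl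

theorem c10 : Block (okR 137400387) (fixR 137400387) 0 2816 51 :=
  block_comb c9 b10 (Nat.zero_le _) (Nat.le_of_ble_eq_true rfl) rfl

theorem c11 : Block (okR 137400387) (fixR 137400387) 0 3072 53 :=
  block_comb c10 b11 (Nat.zero_le _) (Nat.le_of_ble_eq_true rfl) rfl

theorem c12 : Block (okR 137400387) (fixR 137400387) 0 3328 53 :=
  block_comb c11 b12 (Nat.zero_le _) (Nat.le_of_ble_eq_true rfl) rfl

theorem c13 : Block (okR 137400387) (fixR 137400387) 0 3584 53 :=
  block_comb c12 b13 (Nat.zero_le _) (Nat.le_of_ble_eq_true rfl) rfl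

theorem c14 : Block (okR 137400387) (fixR 137400387) 0 3840 53 :=
  block_comb c13 b14 (Nat.zero_le _) (Nat.le_of_ble_eq_true rfl) rfl

theorem c15 : Block (okR 137400387) (fixR 137400387) 0 4096 61 :=
  block_comb c14 b15 (Nat.zero_le _) (Nat.le_of_ble_eq_true rfl) rfl

theorem c16 : Block (okR 137400387) (fixR 137400387) 0 4352 65 :=
  block_comb c15 b16 (Nat.zero_le _) (Nat.le_of_ble_eq_true rfl) rfl

theorem c17 : Block (okR 137400387) (fixR 137400387) 0 4608 65 :=
  block_comb c16 b17 (Nat.zero_le _) (Nat.le_of_ble_eq_true rfl) rfl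

theorem c18 : Block (okR 137400387) (fixR 137400387) 0 4864 66 :=
  block_comb c17 b18 (Nat.zero_le _) (Nat.le_of_ble_eq_true rfl) rfl

theorem c19 : Block (okR 137400387) (fixR 137400387) 0 5120 69 :=
  block_comb c18 b19 (Nat.zero_le _) (Nat.le_of_ble_eq_true rfl) rfl

theorem c20 : Block (okR 137400387) (fixR 137400387) 0 5376 73 :=
  block_comb c19 b20 (Nat.zero_le _) (Nat.le_of_ble_eq_true rfl) rfl

theorem c21 : Block (okR 137400387) (fixR 137400387) 0 5632 77 :=
  block_comb c20 b21 (Nat.zero_le _) (Nat.le_of_ble_eq_true rfl) rfl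

theorem c22 : Block (okR 137400387) (fixR 137400387) 0 5888 78 :=
  block_comb c21 b22 (Nat.zero_le _) (Nat.le_of_ble_eq_true rfl) rfl

theorem c23 : Block (okR 137400387) (fixR 137400387) 0 6144 79 :=
  block_comb c22 b23 (Nat.zero_le _) (Nat.le_of_ble_eq_true rfl) rfl

theorem c24 : Block (okR 137400387) (fixR 137400387) 0 6400 79 :=
  block_comb c23 b24 (Nat.zero_le _) (Nat.le_of_ble_eq_true rfl) rfl

theorem c25 : Block (okR 137400387) (fixR 137400387) 0 6656 79 :=
  block_comb c24 b25 (Nat.zero_le _) (Nat.le_of_ble_eq_true rfl) rfl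

theorem c26 : Block (okR 137400387) (fixR 137400387) 0 6912 79 :=
  block_comb c25 b26 (Nat.zero_le _) (Nat.le_of_ble_eq_true rfl) rfl

theorem c27 : Block (okR 137400387) (fixR 137400387) 0 7168 79 :=
  block_comb c26 b27 (Nat.zero_le _) (Nat.le_of_ble_eq_true rfl) rfl

theorem c28 : Block (okR 137400387) (fixR 137400387) 0 7424 80 :=
  block_comb c27 b28 (Nat.zero_le _) (Nat.le_of_ble_eq_true rfl) rfl

theorem c29 : Block (okR 137400387) (fixR 137400387) 0 7680 80 :=
  block_comb c28 b29 (Nat.zero_le _) (Nat.le_of_ble_eq_true rfl) rfl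

theorem c30 : Block (okR 137400387) (fixR 137400387) 0 7936 80 :=
  block_comb c29 b30 (Nat.zero_le _) (Nat.le_of_ble_eq_true rfl) rfl

theorem c31 : Block (okR 137400387) (fixR 137400387) 0 8192 80 :=
  block_comb c30 b31 (Nat.zero_le _) (Nat.le_of_ble_eq_true rfl) rfl

theorem c32 : Block (okR 137400387) (fixR 137400387) 0 8448 82 :=
  block_comb c31 b32 (Nat.zero_le _) (Nat.le_of_ble_eq_true rfl) rfl

theorem c33 : Block (okR 137400387) (fixR 137400387) 0 8704 84 :=
  block_comb c32 b33 (Nat.zero_le _) (Nat.le_of_ble_eq_true rfl) rfl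

theorem c34 : Block (okR 137400387) (fixR 137400387) 0 8960 84 :=
  block_comb c33 b34 (Nat.zero_le _) (Nat.le_of_ble_eq_true rfl) rfl

theorem c35 : Block (okR 137400387) (fixR 137400387) 0 9216 84 :=
  block_comb c34 b35 (Nat.zero_le _) (Nat.le_of_ble_eq_true rfl) rfl

theorem c36 : Block (okR 137400387) (fixR 137400387) 0 9472 86 :=
  block_comb c35 b36 (Nat.zero_le _) (Nat.le_of_ble_eq_true rfl) rfl

theorem c37 : Block (okR 137400387) (fixR 137400387) 0 9728 91 :=
  block_comb c36 b37 (Nat.zero_le _) (Nat.le_of_ble_eq_true rfl) rfl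

theorem c38 : Block (okR 137400387) (fixR 137400387) 0 9984 95 :=
  block_comb c37 b38 (Nat.zero_le _) (Nat.le_of_ble_eq_true rfl) rfl

theorem c39 : Block (okR 137400387) (fixR 137400387) 0 10240 107 :=
  block_comb c38 b39 (Nat.zero_le _) (Nat.le_of_ble_eq_true rfl) rfl

theorem c40 : Block (okR 137400387) (fixR 137400387) 0 10496 117 :=
  block_comb c39 b40 (Nat.zero_le _) (Nat.le_of_ble_eq_true rfl) rfl

theorem c41 : Block (okR 137400387) (fixR 137400387) 0 10752 117 :=
  block_comb c40 b41 (Nat.zero_le _) (Nat.le_of_ble_eq_true rfl) rfl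

theorem c42 : Block (okR 137400387) (fixR 137400387) 0 11008 119 :=
  block_comb c41 b42 (Nat.zero_le _) (Nat.le_of_ble_eq_true rfl) rfl

theorem c43 : Block (okR 137400387) (fixR 137400387) 0 11264 120 :=
  block_comb c42 b43 (Nat.zero_le _) (Nat.le_of_ble_eq_true rfl) rfl

theorem c44 : Block (okR 137400387) (fixR 137400387) 0 11520 120 :=
  block_comb c43 b44 (Nat.zero_le _) (Nat.le_of_ble_eq_true rfl) rfl

theorem c45 : Block (okR 137400387) (fixR 137400387) 0 11776 122 :=
  block_comb c44 b45 (Nat.zero_le _) (Nat.le_of_ble_eq_true rfl) rfl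

theorem c46 : Block (okR 137400387) (fixR 137400387) 0 12032 131 :=
  block_comb c45 b46 (Nat.zero_le _) (Nat.le_of_ble_eq_true rfl) rfl

theorem c47 : Block (okR 137400387) (fixR 137400387) 0 12288 133 :=
  block_comb c46 b47 (Nat.zero_le _) (Nat.le_of_ble_eq_true rfl) rfl

theorem c48 : Block (okR 137400387) (fixR 137400387) 0 12544 138 :=
  block_comb c47 b48 (Nat.zero_le _) (Nat.le_of_ble_eq_true rfl) rfl

theorem c49 : Block (okR 137400387) (fixR 137400387) 0 12800 138 :=
  block_comb c48 b49 (Nat.zero_le _) (Nat.le_of_ble_eq_true rfl) rfl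

theorem c50 : Block (okR 137400387) (fixR 137400387) 0 13056 138 :=
  block_comb c49 b50 (Nat.zero_le _) (Nat.le_of_ble_eq_true rfl) rfl

theorem c51 : Block (okR 137400387) (fixR 137400387) 0 13312 139 :=
  block_comb c50 b51 (Nat.zero_le _) (Nat.le_of_ble_eq_true rfl) rfl

theorem c52 : Block (okR 137400387) (fixR 137400387) 0 13568 140 :=
  block_comb c51 b52 (Nat.zero_le _) (Nat.le_of_ble_eq_true rfl) rfl

theorem c53 : Block (okR 137400387) (fixR 137400387) 0 13824 140 :=
  block_comb c52 b53 (Nat.zero_le _) (Nat.le_of_ble_eq_true rfl) rfl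

theorem c54 : Block (okR 137400387) (fixR 137400387) 0 14080 140 :=
  block_comb c53 b54 (Nat.zero_le _) (Nat.le_of_ble_eq_true rfl) rfl

theorem c55 : Block (okR 137400387) (fixR 137400387) 0 14336 140 :=
  block_comb c54 b55 (Nat.zero_le _) (Nat.le_of_ble_eq_true rfl) rfl

theorem c56 : Block (okR 137400387) (fixR 137400387) 0 14592 140 :=
  block_comb c55 b56 (Nat.zero_le _) (Nat.le_of_ble_eq_true rfl) rfl

theorem c57 : Block (okR 137400387) (fixR 137400387) 0 14848 142 :=
  block_comb c56 b57 (Nat.zero_le _) (Nat.le_of_ble_eq_true rfl) rfl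

theorem c58 : Block (okR 137400387) (fixR 137400387) 0 15104 143 :=
  block_comb c57 b58 (Nat.zero_le _) (Nat.le_of_ble_eq_true rfl) rfl

theorem c59 : Block (okR 137400387) (fixR 137400387) 0 15360 144 :=
  block_comb c58 b59 (Nat.zero_le _) (Nat.le_of_ble_eq_true rfl) rfl

theorem c60 : Block (okR 137400387) (fixR 137400387) 0 15616 146 :=
  block_comb c59 b60 (Nat.zero_le _) (Nat.le_of_ble_eq_true rfl) rfl

theorem c61 : Block (okR 137400387) (fixR 137400387) 0 15872 148 :=
  block_comb c60 b61 (Nat.zero_le _) (Nat.le_of_ble_eq_true rfl) rfl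

theorem c62 : Block (okR 137400387) (fixR 137400387) 0 16128 153 :=
  block_comb c61 b62 (Nat.zero_le _) (Nat.le_of_ble_eq_true rfl) rfl

theorem c63 : Block (okR 137400387) (fixR 137400387) 0 16384 155 :=
  block_comb c62 b63 (Nat.zero_le _) (Nat.le_of_ble_eq_true rfl) rfl

theorem c64 : Block (okR 137400387) (fixR 137400387) 0 16640 158 :=
  block_comb c63 b64 (Nat.zero_le _) (Nat.le_of_ble_eq_true rfl) rfl

theorem c65 : Block (okR 137400387) (fixR 137400387) 0 16896 159 :=
  block_comb c64 b65 (Nat.zero_le _) (Nat.le_of_ble_eq_true rfl) rfl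

theorem c66 : Block (okR 137400387) (fixR 137400387) 0 17152 159 :=
  block_comb c65 b66 (Nat.zero_le _) (Nat.le_of_ble_eq_true rfl) rfl

theorem c67 : Block (okR 137400387) (fixR 137400387) 0 17408 160 :=
  block_comb c66 b67 (Nat.zero_le _) (Nat.le_of_ble_eq_true rfl) rfl

theorem c68 : Block (okR 137400387) (fixR 137400387) 0 17664 161 :=
  block_comb c67 b68 (Nat.zero_le _) (Nat.le_of_ble_eq_true rfl) rfl

theorem c69 : Block (okR 137400387) (fixR 137400387) 0 17920 172 :=
  block_comb c68 b69 (Nat.zero_le _) (Nat.le_of_ble_eq_true rfl) rfl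

theorem c70 : Block (okR 137400387) (fixR 137400387) 0 18176 181 :=
  block_comb c69 b70 (Nat.zero_le _) (Nat.le_of_ble_eq_true rfl) rfl

theorem c71 : Block (okR 137400387) (fixR 137400387) 0 18432 183 :=
  block_comb c70 b71 (Nat.zero_le _) (Nat.le_of_ble_eq_true rfl) rfl

theorem c72 : Block (okR 137400387) (fixR 137400387) 0 18688 184 :=
  block_comb c71 b72 (Nat.zero_le _) (Nat.le_of_ble_eq_true rfl) rfl

theorem c73 : Block (okR 137400387) (fixR 137400387) 0 18944 186 :=
  block_comb c72 b73 (Nat.zero_le _) (Nat.le_of_ble_eq_true rfl) rfl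

theorem c74 : Block (okR 137400387) (fixR 137400387) 0 19200 190 :=
  block_comb c73 b74 (Nat.zero_le _) (Nat.le_of_ble_eq_true rfl) rfl

theorem c75 : Block (okR 137400387) (fixR 137400387) 0 19456 193 :=
  block_comb c74 b75 (Nat.zero_le _) (Nat.le_of_ble_eq_true rfl) rfl

theorem c76 : Block (okR 137400387) (fixR 137400387) 0 19712 195 :=
  block_comb c75 b76 (Nat.zero_le _) (Nat.le_of_ble_eq_true rfl) rfl

theorem c77 : Block (okR 137400387) (fixR 137400387) 0 19968 195 :=
  block_comb c76 b77 (Nat.zero_le _) (Nat.le_of_ble_eq_true rfl) rfl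

theorem c78 : Block (okR 137400387) (fixR 137400387) 0 20224 197 :=
  block_comb c77 b78 (Nat.zero_le _) (Nat.le_of_ble_eq_true rfl) rfl

theorem c79 : Block (okR 137400387) (fixR 137400387) 0 20480 200 :=
  block_comb c78 b79 (Nat.zero_le _) (Nat.le_of_ble_eq_true rfl) rfl

theorem c80 : Block (okR 137400387) (fixR 137400387) 0 20736 204 :=
  block_comb c79 b80 (Nat.zero_le _) (Nat.le_of_ble_eq_true rfl) rfl

theorem c81 : Block (okR 137400387) (fixR 137400387) 0 20992 208 :=
  block_comb c80 b81 (Nat.zero_le _) (Nat.le_of_ble_eq_true rfl) rfl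

theorem c82 : Block (okR 137400387) (fixR 137400387) 0 21248 210 :=
  block_comb c81 b82 (Nat.zero_le _) (Nat.le_of_ble_eq_true rfl) rfl

theorem c83 : Block (okR 137400387) (fixR 137400387) 0 21504 210 :=
  block_comb c82 b83 (Nat.zero_le _) (Nat.le_of_ble_eq_true rfl) rfl

theorem c84 : Block (okR 137400387) (fixR 137400387) 0 21760 211 :=
  block_comb c83 b84 (Nat.zero_le _) (Nat.le_of_ble_eq_true rfl) rfl

theorem c85 : Block (okR 137400387) (fixR 137400387) 0 22016 211 :=
  block_comb c84 b85 (Nat.zero_le _) (Nat.le_of_ble_eq_true rfl) rfl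

theorem c86 : Block (okR 137400387) (fixR 137400387) 0 22272 211 :=
  block_comb c85 b86 (Nat.zero_le _) (Nat.le_of_ble_eq_true rfl) rfl

theorem c87 : Block (okR 137400387) (fixR 137400387) 0 22528 213 :=
  block_comb c86 b87 (Nat.zero_le _) (Nat.le_of_ble_eq_true rfl) rfl

theorem c88 : Block (okR 137400387) (fixR 137400387) 0 22784 217 :=
  block_comb c87 b88 (Nat.zero_le _) (Nat.le_of_ble_eq_true rfl) rfl

theorem c89 : Block (okR 137400387) (fixR 137400387) 0 23040 217 :=
  block_comb c88 b89 (Nat.zero_le _) (Nat.le_of_ble_eq_true rfl) rfl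

theorem c90 : Block (okR 137400387) (fixR 137400387) 0 23296 221 :=
  block_comb c89 b90 (Nat.zero_le _) (Nat.le_of_ble_eq_true rfl) rfl

theorem c91 : Block (okR 137400387) (fixR 137400387) 0 23552 221 :=
  block_comb c90 b91 (Nat.zero_le _) (Nat.le_of_ble_eq_true rfl) rfl

theorem c92 : Block (okR 137400387) (fixR 137400387) 0 23808 222 :=
  block_comb c91 b92 (Nat.zero_le _) (Nat.le_of_ble_eq_true rfl) rfl

theorem c93 : Block (okR 137400387) (fixR 137400387) 0 24064 224 :=
  block_comb c92 b93 (Nat.zero_le _) (Nat.le_of_ble_eq_true rfl) rfl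

theorem c94 : Block (okR 137400387) (fixR 137400387) 0 24320 225 :=
  block_comb c93 b94 (Nat.zero_le _) (Nat.le_of_ble_eq_true rfl) rfl

theorem c95 : Block (okR 137400387) (fixR 137400387) 0 24576 226 :=
  block_comb c94 b95 (Nat.zero_le _) (Nat.le_of_ble_eq_true rfl) rfl

theorem c96 : Block (okR 137400387) (fixR 137400387) 0 24832 228 :=
  block_comb c95 b96 (Nat.zero_le _) (Nat.le_of_ble_eq_true rfl) rfl

theorem c97 : Block (okR 137400387) (fixR 137400387) 0 25088 231 :=
  block_comb c96 b97 (Nat.zero_le _) (Nat.le_of_ble_eq_true rfl) rfl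

theorem c98 : Block (okR 137400387) (fixR 137400387) 0 25344 231 :=
  block_comb c97 b98 (Nat.zero_le _) (Nat.le_of_ble_eq_true rfl) rfl

theorem c99 : Block (okR 137400387) (fixR 137400387) 0 25600 233 :=
  block_comb c98 b99 (Nat.zero_le _) (Nat.le_of_ble_eq_true rfl) rfl

theorem c100 : Block (okR 137400387) (fixR 137400387) 0 25856 239 :=
  block_comb c99 b100 (Nat.zero_le _) (Nat.le_of_ble_eq_true rfl) rfl

theorem c101 : Block (okR 137400387) (fixR 137400387) 0 26112 239 :=
  block_comb c100 b101 (Nat.zero_le _) (Nat.le_of_ble_eq_true rfl) rfl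

theorem c102 : Block (okR 137400387) (fixR 137400387) 0 26368 239 :=
  block_comb c101 b102 (Nat.zero_le _) (Nat.le_of_ble_eq_true rfl) rfl

theorem c103 : Block (okR 137400387) (fixR 137400387) 0 26624 239 :=
  block_comb c102 b103 (Nat.zero_le _) (Nat.le_of_ble_eq_true rfl) rfl

theorem c104 : Block (okR 137400387) (fixR 137400387) 0 26880 241 :=
  block_comb c103 b104 (Nat.zero_le _) (Nat.le_of_ble_eq_true rfl) rfl

theorem c105 : Block (okR 137400387) (fixR 137400387) 0 27136 243 :=
  block_comb c104 b105 (Nat.zero_le _) (Nat.le_of_ble_eq_true rfl) rfl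

theorem c106 : Block (okR 137400387) (fixR 137400387) 0 27392 244 :=
  block_comb c105 b106 (Nat.zero_le _) (Nat.le_of_ble_eq_true rfl) rfl

theorem c107 : Block (okR 137400387) (fixR 137400387) 0 27648 244 :=
  block_comb c106 b107 (Nat.zero_le _) (Nat.le_of_ble_eq_true rfl) rfl

theorem c108 : Block (okR 137400387) (fixR 137400387) 0 27904 244 :=
  block_comb c107 b108 (Nat.zero_le _) (Nat.le_of_ble_eq_true rfl) rfl

theorem c109 : Block (okR 137400387) (fixR 137400387) 0 28160 246 :=
  block_comb c108 b109 (Nat.zero_le _) (Nat.le_of_ble_eq_true rfl) rfl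

theorem c110 : Block (okR 137400387) (fixR 137400387) 0 28416 247 :=
  block_comb c109 b110 (Nat.zero_le _) (Nat.le_of_ble_eq_true rfl) rfl

theorem c111 : Block (okR 137400387) (fixR 137400387) 0 28672 247 :=
  block_comb c110 b111 (Nat.zero_le _) (Nat.le_of_ble_eq_true rfl) rfl

theorem c112 : Block (okR 137400387) (fixR 137400387) 0 28928 248 :=
  block_comb c111 b112 (Nat.zero_le _) (Nat.le_of_ble_eq_true rfl) rfl

theorem c113 : Block (okR 137400387) (fixR 137400387) 0 29184 252 :=
  block_comb c112 b113 (Nat.zero_le _) (Nat.le_of_ble_eq_true rfl) rfl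

theorem c114 : Block (okR 137400387) (fixR 137400387) 0 29440 252 :=
  block_comb c113 b114 (Nat.zero_le _) (Nat.le_of_ble_eq_true rfl) rfl

theorem c115 : Block (okR 137400387) (fixR 137400387) 0 29696 252 :=
  block_comb c114 b115 (Nat.zero_le _) (Nat.le_of_ble_eq_true rfl) rfl

theorem c116 : Block (okR 137400387) (fixR 137400387) 0 29952 252 :=
  block_comb c115 b116 (Nat.zero_le _) (Nat.le_of_ble_eq_true rfl) rfl

theorem all : Block (okR 137400387) (fixR 137400387) 0 29952 252 := c116

end Cfsg.Agent.TcData.Ly.Fix3.T1
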